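import Groth.Agent.L17.Approx.Extend
import Groth.Agent.L17.BC.Sheaf
import Groth.Agent.L17.QCohGab.Groth
import Groth.Agent.L19.ZClos.Criteria
import Groth.Agent.L20.ModStalk
import Groth.Agent.L16.QCohSections
import Groth.Prelude.Def_QCohCat

/-!
Noetherian objects among quasi-coherent modules on a noetherian scheme.
-/

set_option autoImplicit false
set_option linter.style.haveILetI false
set_option backward.isDefEq.respectTransparency false

universe u

open CategoryTheory CategoryTheory.Limits AlgebraicGeometry TopologicalSpace Opposite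

namespace Groth.L16.QCohNoeth

open Groth.L18.Frame (rs ro rs_rs rs_self rs_smul)

variable {X : Scheme.{u}}

theorem app_rs {M N : X.Modules} (φ : M ⟶ N) {U V : X.Opens} (h : V ≤ U) (s : Γ(M, U)) :
    φ.app V (rs M h s) = rs N h (φ.app U s) :=
  PresheafOfModules.naturality_apply φ.val (homOfLE h).op s

/-- A monomorphism which is surjective on the sections over the members of an affine cover. -/
theorem isIso_of_mono_of_surjective {M N : X.Modules} [Coh.IsQCoh N] (φ : M ⟶ N) [Mono φ]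
    {ι : Type*} (W : ι → X.Opens) (hW : ∀ i, IsAffineOpen (W i)) (hcov : ∀ x : X, ∃ i, x ∈ W i)
    (h : ∀ i, Function.Surjective (φ.app (W i))) : IsIso φ := by
  rw [Groth.L21.Mod.isIso_iff_stalk_bijective]
  intro x
  refine ⟨(Groth.L21.Mod.mono_iff_stalk_injective φ).1 inferInstance x, fun t => ?_⟩
  obtain ⟨U, hU, s, rfl⟩ := TopCat.Presheaf.exists_germ_eq (F := N.presheaf) (x := x) t
  obtain ⟨i, hi⟩ := hcov x
  obtain ⟨a, haU, hxa⟩ := (hW i).exists_basicOpen_le (V := U) ⟨x, hU⟩ hi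
  have hle := X.basicOpen_le a
  obtain ⟨n, t', ht'⟩ := Groth.L16.QCohSect.exists_pow_smul_eq_res (hW i) N a (rs N haU s)
  obtain ⟨v, hv⟩ := h i t'
  have hu : IsUnit (ro hle (a ^ n)) := by
    show IsUnit (X.presheaf.map _ (a ^ n))
    rw [map_pow]
    exact (RingedSpace.isUnit_res_basicOpen X.toRingedSpace a).pow n
  obtain ⟨c, hc'⟩ := hu.exists_left_inv
  refine ⟨M.presheaf.germ (X.basicOpen a) x hxa (c • rs M hle v), ?_⟩
  erw [Groth.L21.Mod.stalkF_map_germ]
  rw [Scheme.Modules.Hom.app_smul, app_rs, hv, ht', smul_smul, hc', one_smul]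
  exact TopCat.Presheaf.germ_res_apply N.presheaf (homOfLE haU) x hxa s

variable [IsNoetherian X]

/-- Coherent modules are noetherian objects. -/
theorem isNoetherianObject_of_isCoh (M : QCohCat.QCoh X) (hM : Coh.IsCoh M.obj) : IsNoetherianObject M := by
  classical
  rw [isNoetherianObject_iff_monotone_chain_condition]
  intro c
  obtain ⟨t, ht⟩ := isCompact_univ.elim_finite_subcover (fun V : X.affineOpens => (V.1 : Set X))
    (fun V => V.1.2) (fun x _ => by
      obtain ⟨V, hV, hxV, -⟩ := Opens.isBasis_iff_nbhd.1 X.isBasis_affineOpens (show x ∈ (⊤ : X.Opens) from trivial)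
      exact Set.mem_iUnion.2 ⟨⟨V, hV⟩, hxV⟩)
  have stab : ∀ V : X.affineOpens, ∃ n, ∀ m, n ≤ m →
      Set.range ((c m).arrow.hom.app V.1) ⊆ Set.range ((c n).arrow.hom.app V.1) := by
    intro V
    haveI := IsLocallyNoetherian.component_noetherian (X := X) V
    haveI := Groth.L20.ModStalk.finite_sections M.obj hM V.2
    let R : ℕ →o Submodule Γ(X, V.1) Γ(M.obj, V.1) :=
      { toFun := fun k =>
          { carrier := Set.range ((c k).arrow.hom.app V.1)
            add_mem' := by rintro _ _ ⟨a, rfl⟩ ⟨b, rfl⟩; exact ⟨a + b, map_add _ a b⟩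
            zero_mem' := ⟨0, map_zero _⟩
            smul_mem' := by rintro r _ ⟨a, rfl⟩; exact ⟨r • a, Scheme.Modules.Hom.app_smul _ r a⟩ }
        monotone' := fun k l hkl => by
          rintro _ ⟨a, rfl⟩
          exact ⟨(Subobject.ofLE _ _ (c.monotone hkl)).hom.app V.1 a,
            congr((($(Subobject.ofLE_arrow (c.monotone hkl))).hom.app V.1) a)⟩ }
    obtain ⟨n, hn⟩ := monotone_stabilizes_iff_noetherian.2 inferInstance R
    exact ⟨n, fun m hm => (congrArg SetLike.coe (hn m hm)).ge⟩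
  choose n hn using stab
  refine ⟨t.sup n, fun m hm => ?_⟩
  have hle := c.monotone hm
  haveI : Mono (Subobject.ofLE _ _ hle).hom := (QCohCat.isQCoh X).ι.map_mono (Subobject.ofLE _ _ hle)
  haveI : Mono (c m).arrow.hom := (QCohCat.isQCoh X).ι.map_mono (c m).arrow
  haveI : Coh.IsQCoh ((c m : QCohCat.QCoh X)).obj := (c m : QCohCat.QCoh X).property
  have hiso : IsIso (Subobject.ofLE _ _ hle).hom := by
    refine isIso_of_mono_of_surjective _ (fun V : t => V.1.1) (fun V => V.1.2) (fun x => ?_) fun V s => ?_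
    · obtain ⟨V, hVt, hxV⟩ := Set.mem_iUnion₂.1 (ht (Set.mem_univ x))
      exact ⟨⟨V, hVt⟩, hxV⟩
    · have hnV : n V.1 ≤ t.sup n := Finset.le_sup V.2
      obtain ⟨a, ha⟩ := hn V.1 m (hnV.trans hm) ⟨s, rfl⟩
      refine ⟨(Subobject.ofLE _ _ (c.monotone hnV)).hom.app V.1.1 a, ?_⟩
      refine Groth.L19.ZClos.app_injective_of_mono (c m).arrow.hom V.1.1 ?_
      refine Eq.trans ?_ ha
      exact congr((($(show Subobject.ofLE _ _ (c.monotone hnV) ≫ Subobject.ofLE _ _ hle ≫ (c m).arrow = _ by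
        rw [← Category.assoc, Subobject.ofLE_comp_ofLE, Subobject.ofLE_arrow])).hom.app V.1.1) a)
  haveI : IsIso ((QCohCat.isQCoh X).ι.map (Subobject.ofLE _ _ hle)) := hiso
  haveI : IsIso (Subobject.ofLE _ _ hle) := isIso_of_reflects_iso _ (QCohCat.isQCoh X).ι
  exact le_antisymm hle (Subobject.le_of_comm (inv (Subobject.ofLE _ _ hle))
    ((IsIso.inv_comp_eq _).2 (Subobject.ofLE_arrow hle).symm))

/-- Noetherian objects are coherent. -/
theorem isCoh_of_isNoetherianObject (M : QCohCat.QCoh X) [IsNoetherianObject M] : Coh.IsCoh M.obj := by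
  classical
  haveI hq : Coh.IsQCoh M.obj := M.property
  let Sset : Set (Subobject M) := {P | Coh.IsCoh (P : QCohCat.QCoh X).obj}
  have hmk : ∀ (F : X.Modules) (i : F ⟶ M.obj) [Mono i] (hF : Coh.IsCoh F),
      ∃ (j : (⟨F, hF.1⟩ : QCohCat.QCoh X) ⟶ M) (_ : Mono j), j.hom = i ∧ Subobject.mk j ∈ Sset := by
    intro F i _ hF
    let j : (⟨F, hF.1⟩ : QCohCat.QCoh X) ⟶ M := ObjectProperty.homMk i
    haveI : Mono ((QCohCat.isQCoh X).ι.map j) := ‹Mono i›
    haveI : Mono j := (QCohCat.isQCoh X).ι.mono_of_mono_map inferInstance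
    refine ⟨j, inferInstance, rfl, ?_⟩
    let e := ((QCohCat.isQCoh X).ι.mapIso (Subobject.underlyingIso j)).symm
    exact ⟨(Subobject.mk j : QCohCat.QCoh X).property, Groth.L17.Approx.isFT_of_epi e.hom hF.2⟩
  obtain ⟨P₀, hP₀, hmax⟩ := (wellFounded_gt (α := Subobject M)).has_min Sset (by
    obtain ⟨F, i, hi, hF, -⟩ := Groth.L17.Approx.exists_submodule_finset M.obj (α := PUnit.{1})
      (fun _ => (⊥ : X.Opens)) (fun _ => by rw [Opens.coe_bot]; exact isCompact_empty)
      (fun _ => PEmpty.{u + 1}) (fun _ => PEmpty.elim) ∅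
    obtain ⟨j, _, -, hj⟩ := hmk F i hF
    exact ⟨_, hj⟩)
  haveI : Mono P₀.arrow.hom := (QCohCat.isQCoh X).ι.map_mono P₀.arrow
  have hiso : IsIso P₀.arrow.hom := by
    refine isIso_of_mono_of_surjective _ (fun V : X.affineOpens => V.1) (fun V => V.2) (fun x => ?_) fun V s => ?_
    · obtain ⟨V, hV, hxV, -⟩ := Opens.isBasis_iff_nbhd.1 X.isBasis_affineOpens (show x ∈ (⊤ : X.Opens) from trivial)
      exact ⟨⟨V, hV⟩, hxV⟩
    · obtain ⟨F, i, hi, hF, hs⟩ := Groth.L17.Approx.exists_submodule_finset M.obj (α := PUnit.{1})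
        (fun _ => V.1) (fun _ => V.2.isCompact) (fun _ => PUnit.{u + 1}) (fun _ _ => s) Finset.univ
      obtain ⟨C, c, a, b, hc, hC, ha, hb⟩ := Groth.L17.Approx.exists_sup P₀.arrow.hom i hP₀ hF
      obtain ⟨j, _, hj, hjS⟩ := hmk C c hC
      have hle : P₀ ≤ Subobject.mk j := Subobject.le_mk_of_comm (ObjectProperty.homMk a)
        (ObjectProperty.hom_ext _ (by simpa [hj] using ha))
      have heq : Subobject.mk j ≤ P₀ := (eq_of_le_of_not_lt hle (hmax _ hjS)).ge
      obtain ⟨s', hs'⟩ := hs PUnit.unit (Finset.mem_univ _) PUnit.unit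
      refine ⟨(Subobject.ofMkLE j P₀ heq).hom.app V.1 (b.app V.1 s'), ?_⟩
      refine Eq.trans ?_ ((congr(($hb).app V.1 s')).trans hs')
      rw [← hj]
      exact congr((($(Subobject.ofMkLE_arrow (h := heq))).hom.app V.1) (b.app V.1 s'))
  exact ⟨hq, Groth.L17.Approx.isFT_of_epi P₀.arrow.hom hP₀.2⟩

end Groth.L16.QCohNoeth
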